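import Cfsg.Agent.Chev.SpecialData
import Cfsg.Prelude.Def_LieTwisted

/-!
Tables for the large Ree groups ²F₄: the sixteen Weyl group representatives, the weight function, and their kernel checks.
-/

set_option autoImplicit false

universe u

namespace Cfsg.Agent.Chev

open Cfsg.Lie

/-- The reflection word of a node orbit: `{p₁, p₄}` or `{p₂, p₃}`. -/
def blkF (j : ℕ) : List ℕ := if j = 0 then [0, 3] else [1, 2, 1, 2]

/-- The sixteen elements of the twisted Weyl group as words in the two node orbits. -/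
def wdsF : List (List ℕ) :=
  [[], [0], [1], [1, 0], [0, 1], [0, 1, 0], [1, 0, 1], [1, 0, 1, 0], [0, 1, 0, 1], [0, 1, 0, 1, 0],
   [1, 0, 1, 0, 1], [1, 0, 1, 0, 1, 0], [0, 1, 0, 1, 0, 1], [0, 1, 0, 1, 0, 1, 0], [1, 0, 1, 0, 1, 0, 1],
   [1, 0, 1, 0, 1, 0, 1, 0]]

/-- The flattened word. -/
def flatF (L : List ℕ) : List ℕ := L.flatMap blkF

/-- The flattened word of the `k`-th element. -/
def wdF (k : ℕ) : List ℕ := flatF (wdsF.getD k [])

/-- The number of inverted short roots of the `k`-th element. -/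
def depF : List ℕ := [0, 1, 2, 3, 3, 4, 5, 6, 6, 7, 8, 9, 9, 10, 11, 12]

/-- An invariant weight on the positive roots. -/
def gwF (r : ℕ) : ℕ :=
  [0, 0, 0, 0, 0, 0, 0, 0, 0, 0, 0, 0, 0, 0, 0, 0, 0, 0, 0, 0, 0, 0, 0, 0, 0, 0, 1, 0, 2, 4, 2, 3, 5, 0, 1, 3, 6, 5,
   7, 8, 9, 4, 6, 7, 10, 8, 9, 10].getD r 0

/-- For a positive short root, an element of the Weyl group and a base class mapping onto its class. -/
def repF (r : ℕ) : ℕ × ℕ :=
  match r with
  | 27 => (0, 1) | 28 => (0, 2) | 29 => (5, 1) | 33 => (0, 0) | 34 => (1, 1) | 35 => (3, 1)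
  | 36 => (1, 2) | 37 => (2, 0) | 38 => (4, 0) | 39 => (6, 0) | 40 => (3, 2) | 44 => (5, 2)
  | _ => (0, 0)

/-- The roots of the three base classes. -/
def baseF (j : ℕ) : ℕ × ℕ := [(33, 24), (27, 25), (28, 30)].getD j (33, 24)

/-- Positive short roots. -/
def posShortF : List ℕ := [27, 28, 29, 33, 34, 35, 36, 37, 38, 39, 40, 44]

theorem posShortF_iff : ∀ r < 48, (posT tabF4 r = true ∧ sF4.isLong r = false) ↔ r ∈ posShortF := by
  decide +kernel

theorem isPos_posT {r : ℕ} (hr : r < 48) : chevF4.IsPosRoot r ↔ posT tabF4 r = true :=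
  (posT_iff allOKF4 hr).symm

theorem repF_ok : ∀ r ∈ posShortF, (repF r).1 < 16 ∧ (repF r).2 < 3 ∧
    act chevF4 (wdF (repF r).1) (baseF (repF r).2).1 = r ∧
    act chevF4 (wdF (repF r).1) (baseF (repF r).2).2 = sF4.barF r ∧
    ((repF r).2 = 1 → act chevF4 (wdF (repF r).1) 28 ∈ (chevF4.commTerms r (sF4.barF r)).map (fun c => c.1) ∧
      act chevF4 (wdF (repF r).1) 30 ∈ (chevF4.commTerms r (sF4.barF r)).map (fun c => c.1)) := by
  decide +kernel

theorem gwF_bar : ∀ r < 48, posT tabF4 r = true → gwF (sF4.barF r) = gwF r := by decide +kernel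

theorem gwF_term : ∀ a < 48, posT tabF4 a = true → ∀ b < 48, posT tabF4 b = true →
    ∀ c ∈ chevF4.commTerms a b, gwF a < gwF c.1 ∨ gwF b < gwF c.1 := by
  decide +kernel

/-- The word acts on the fundamental roots as the `b`-th element. -/
noncomputable def sameF (L : List ℕ) (b : ℕ) : Bool :=
  allBelow (fun k => Nat.beq (actT tabF4 L (tabF4.simp' k)) (actT tabF4 (wdF b) (tabF4.simp' k))) 4

theorem wdF_closed : ∀ a < 16, ∀ j < 2, ∃ b < 16, sameF (blkF j ++ wdF a) b = true := by decide +kernel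

theorem wdF_inj : ∀ a < 16, ∀ b < 16, sameF (wdF a) b = true → a = b := by decide +kernel

theorem wdF_lt : ∀ k < 16, ∀ a ∈ wdF k, a < 4 := by decide +kernel

theorem wdF_sigma : ∀ j < 2, sameF ((blkF j).map fun a => 3 - a) (j + 1) = true ∧ sameF (blkF j) (j + 1) = true := by
  decide +kernel

theorem bar_simple : ∀ i < 4, sF4.barF (chevF4.simple i) = chevF4.simple (3 - i) ∧
    sF4.barF (chevF4.neg (chevF4.simple i)) = chevF4.neg (chevF4.simple (3 - i)) := by
  decide +kernel

theorem depF_ok : ∀ k < 16, ((List.range 48).filter fun r =>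
    posT tabF4 r && !sF4.isLong r && !posT tabF4 (actT tabF4 (wdF k) r)).length = depF.getD k 0 := by
  decide +kernel

theorem dihedF :
    sameF ((List.replicate 8 (flatF [0, 1])).flatten) 0 = true ∧
    sameF (flatF [0, 0]) 0 = true ∧ sameF (flatF [1, 1]) 0 = true := by
  decide +kernel

end Cfsg.Agent.Chev
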